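import Groth.Agent.ResProp.EF.K743.Iface2
import Mathlib.RingTheory.TensorProduct.Basic
import Mathlib.RingTheory.Localization.Away.Basic
import Mathlib.Algebra.MvPolynomial.Eval

/-!
# G1B-F1: the universal ring `L = Γ_x ⊗ O(GL_r₁ × GL_r₂)`
-/

set_option autoImplicit false

universe u

open Groth.Agent.Grpsch.AffGrpd TensorProduct MvPolynomial

namespace Groth.Agent.ResProp.EF.K24

open Groth.Agent.ResProp.EF.K743

section base

variable {A Γ K : Type u} [CommRing A] [CommRing Γ] [CommRing K]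

/-- a pushout of commutative rings with its universal property -/
structure Po (s : A →+* Γ) (x : A →+* K) where
  B : Type u
  [cr : CommRing B]
  inK : K →+* B
  inΓ : Γ →+* B
  comm : inΓ.comp s = inK.comp x
  lift : ∀ {T : Type u} [CommRing T] (y : K →+* T) (γ : Γ →+* T), γ.comp s = y.comp x → (B →+* T)
  lift_inK : ∀ {T : Type u} [CommRing T] (y : K →+* T) (γ : Γ →+* T) (h : γ.comp s = y.comp x) (a : K),
    lift y γ h (inK a) = y a
  lift_inΓ : ∀ {T : Type u} [CommRing T] (y : K →+* T) (γ : Γ →+* T) (h : γ.comp s = y.comp x) (a : Γ),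
    lift y γ h (inΓ a) = γ a
  ext : ∀ {T : Type u} [CommRing T] (φ ψ : B →+* T), φ.comp inK = ψ.comp inK → φ.comp inΓ = ψ.comp inΓ → φ = ψ

attribute [instance] Po.cr

theorem nonempty_po (s : A →+* Γ) (x : A →+* K) : Nonempty (Po s x) := by
  let := s.toAlgebra
  let := x.toAlgebra
  have hunit : ∀ {T : Type u} [CommRing T] (y : K →+* T) (γ : Γ →+* T), γ.comp s = y.comp x →
      ∃ F : K ⊗[A] Γ →+* T, (∀ a : K, F (a ⊗ₜ[A] (1 : Γ)) = y a) ∧ ∀ a : Γ, F ((1 : K) ⊗ₜ[A] a) = γ a := by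
    intro T _ y γ h
    let : Algebra A T := (y.comp x).toAlgebra
    let f : K →ₐ[A] T := { y with commutes' := fun a => rfl }
    let g : Γ →ₐ[A] T := { γ with commutes' := fun a => RingHom.congr_fun h a }
    refine ⟨(Algebra.TensorProduct.lift f g (fun _ _ => Commute.all _ _)).toRingHom, fun a => ?_, fun a => ?_⟩
    · change Algebra.TensorProduct.lift f g (fun _ _ => Commute.all _ _) (a ⊗ₜ[A] (1 : Γ)) = _
      rw [Algebra.TensorProduct.lift_tmul, map_one, mul_one]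
      rfl
    · change Algebra.TensorProduct.lift f g (fun _ _ => Commute.all _ _) ((1 : K) ⊗ₜ[A] a) = _
      rw [Algebra.TensorProduct.lift_tmul, map_one, one_mul]
      rfl
  refine ⟨
    { B := K ⊗[A] Γ
      inK := (Algebra.TensorProduct.includeLeft : K →ₐ[A] K ⊗[A] Γ).toRingHom
      inΓ := (Algebra.TensorProduct.includeRight : Γ →ₐ[A] K ⊗[A] Γ).toRingHom
      comm := ?_
      lift := fun y γ h => (hunit y γ h).choose
      lift_inK := fun y γ h a => (hunit y γ h).choose_spec.1 a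
      lift_inΓ := fun y γ h a => (hunit y γ h).choose_spec.2 a
      ext := ?_ }⟩
  · ext a
    change (1 : K) ⊗ₜ[A] (s a) = (x a) ⊗ₜ[A] (1 : Γ)
    have h1 : s a = a • (1 : Γ) := by rw [Algebra.smul_def, mul_one]; rfl
    have h2 : x a = a • (1 : K) := by rw [Algebra.smul_def, mul_one]; rfl
    rw [h1, h2, TensorProduct.tmul_smul, TensorProduct.smul_tmul']
  · intro T _ φ ψ h1 h2
    refine RingHom.ext fun z => ?_
    induction z using TensorProduct.induction_on with
    | zero => rw [map_zero, map_zero]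
    | add a b ha hb => rw [map_add, map_add, ha, hb]
    | tmul a b =>
      have e : (a ⊗ₜ[A] b : K ⊗[A] Γ) = (a ⊗ₜ[A] (1 : Γ)) * ((1 : K) ⊗ₜ[A] b) := by
        rw [Algebra.TensorProduct.tmul_mul_tmul, mul_one, one_mul]
      rw [e, map_mul, map_mul]
      exact congrArg₂ (· * ·) (RingHom.congr_fun h1 a) (RingHom.congr_fun h2 b)

end base

section gl

variable (B : Type u) [CommRing B] (r₁ r₂ : ℕ)

/-- variables: the entries of the two matrices -/
abbrev Var := (Fin r₁ × Fin r₁) ⊕ (Fin r₂ × Fin r₂)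

abbrev Pol := MvPolynomial (Var r₁ r₂) B

noncomputable def M₁ : Matrix (Fin r₁) (Fin r₁) (Pol B r₁ r₂) := Matrix.of fun i j => X (Sum.inl (i, j))

noncomputable def M₂ : Matrix (Fin r₂) (Fin r₂) (Pol B r₁ r₂) := Matrix.of fun i j => X (Sum.inr (i, j))

noncomputable abbrev Loc := Localization.Away ((M₁ B r₁ r₂).det * (M₂ B r₁ r₂).det)

theorem unit₁ : IsUnit (((M₁ B r₁ r₂).map (algebraMap (Pol B r₁ r₂) (Loc B r₁ r₂))).det) := by
  have h := IsLocalization.Away.algebraMap_isUnit (S := Loc B r₁ r₂) ((M₁ B r₁ r₂).det * (M₂ B r₁ r₂).det)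
  rw [map_mul] at h
  have := isUnit_of_mul_isUnit_left h
  rwa [RingHom.map_det] at this

theorem unit₂ : IsUnit (((M₂ B r₁ r₂).map (algebraMap (Pol B r₁ r₂) (Loc B r₁ r₂))).det) := by
  have h := IsLocalization.Away.algebraMap_isUnit (S := Loc B r₁ r₂) ((M₁ B r₁ r₂).det * (M₂ B r₁ r₂).det)
  rw [map_mul] at h
  have := isUnit_of_mul_isUnit_right h
  rwa [RingHom.map_det] at this

noncomputable def evalM {T : Type u} [CommRing T] (f : B →+* T) (g₁ : GL (Fin r₁) T) (g₂ : GL (Fin r₂) T) :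
    Pol B r₁ r₂ →+* T :=
  eval₂Hom f (Sum.elim (fun p => g₁.1 p.1 p.2) (fun p => g₂.1 p.1 p.2))

variable {B r₁ r₂} in
theorem evalM_unit {T : Type u} [CommRing T] (f : B →+* T) (g₁ : GL (Fin r₁) T) (g₂ : GL (Fin r₂) T) :
    IsUnit (evalM B r₁ r₂ f g₁ g₂ ((M₁ B r₁ r₂).det * (M₂ B r₁ r₂).det)) := by
  rw [map_mul, RingHom.map_det, RingHom.map_det]
  have e1 : (evalM B r₁ r₂ f g₁ g₂).mapMatrix (M₁ B r₁ r₂) = g₁.1 := by
    ext i j
    simp [evalM, M₁]
  have e2 : (evalM B r₁ r₂ f g₁ g₂).mapMatrix (M₂ B r₁ r₂) = g₂.1 := by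
    ext i j
    simp [evalM, M₂]
  rw [e1, e2]
  exact ((Matrix.isUnit_iff_isUnit_det _).1 g₁.isUnit).mul ((Matrix.isUnit_iff_isUnit_det _).1 g₂.isUnit)

end gl

theorem lRing {A Γ : Type u} [CommRing A] [CommRing Γ] (G : RGrpd A Γ) {K : Type u} [Field K] (x : A →+* K)
    (r₁ r₂ : ℕ) : Nonempty (LRing G x r₁ r₂) := by
  obtain ⟨b⟩ := nonempty_po G.s x
  let B := b.B
  let P := Pol B r₁ r₂
  let L := Loc B r₁ r₂
  let d := (M₁ B r₁ r₂).det * (M₂ B r₁ r₂).det
  let c : B →+* L := (algebraMap P L).comp C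
  refine ⟨
    { L := L
      y := c.comp b.inK
      γ := c.comp b.inΓ
      hγ := congrArg c.comp b.comm
      l₁ := Matrix.GeneralLinearGroup.mk'' _ (unit₁ B r₁ r₂)
      l₂ := Matrix.GeneralLinearGroup.mk'' _ (unit₂ B r₁ r₂)
      lift := fun y' γ' h g₁ g₂ => IsLocalization.Away.lift (S := L) d (evalM_unit (b.lift y' γ' h) g₁ g₂)
      lift_y := ?_
      lift_γ := ?_
      lift_l₁ := ?_
      lift_l₂ := ?_
      ext := ?_ }⟩
  · intro T _ y' γ' h g₁ g₂
    ext a
    change IsLocalization.Away.lift (S := L) d (evalM_unit (b.lift y' γ' h) g₁ g₂) (algebraMap P L (C (b.inK a))) = _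
    rw [IsLocalization.Away.lift_eq, evalM, coe_eval₂Hom, eval₂_C, b.lift_inK]
  · intro T _ y' γ' h g₁ g₂
    ext a
    change IsLocalization.Away.lift (S := L) d (evalM_unit (b.lift y' γ' h) g₁ g₂) (algebraMap P L (C (b.inΓ a))) = _
    rw [IsLocalization.Away.lift_eq, evalM, coe_eval₂Hom, eval₂_C, b.lift_inΓ]
  · intro T _ y' γ' h g₁ g₂ i j
    change IsLocalization.Away.lift (S := L) d (evalM_unit (b.lift y' γ' h) g₁ g₂)
      (algebraMap P L (X (Sum.inl (i, j)))) = _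
    rw [IsLocalization.Away.lift_eq, evalM, coe_eval₂Hom, eval₂_X]
    rfl
  · intro T _ y' γ' h g₁ g₂ i j
    change IsLocalization.Away.lift (S := L) d (evalM_unit (b.lift y' γ' h) g₁ g₂)
      (algebraMap P L (X (Sum.inr (i, j)))) = _
    rw [IsLocalization.Away.lift_eq, evalM, coe_eval₂Hom, eval₂_X]
    rfl
  · intro T _ φ ψ hy hγ h1 h2
    refine IsLocalization.ringHom_ext (Submonoid.powers d) ?_
    refine MvPolynomial.ringHom_ext' ?_ ?_
    · exact b.ext _ _ hy hγ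
    · rintro (⟨i, j⟩ | ⟨i, j⟩)
      · exact h1 i j
      · exact h2 i j

/-- **F1** -/
theorem stmtLRing : StmtLRing := fun G _ _ x r₁ r₂ => lRing G x r₁ r₂

end Groth.Agent.ResProp.EF.K24
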